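import Groth.Agent.GeomProp.SmoothPoint
import Groth.Agent.S2156
import Groth.Agent.UOFlat.Scheme
import Groth.Agent.UOFlat.Equidim
import Groth.Agent.FibCrit.Stalk
import Groth.Agent.FibMapPoint.Basic
import Groth.Agent.Unibranch.EquidimAt
import Groth.Agent.CMFlat.Quotient
import Groth.Agent.CMChart.Equidim
import Groth.Prelude.Def_CAlg2
import Mathlib

/-!
Smoothness at a point from universal openness and geometric regularity of the fibre, over a reduced base.
-/

set_option autoImplicit false
set_option linter.style.haveILetI false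
set_option backward.isDefEq.respectTransparency.types false

namespace Groth.Agent.SmoothGR

universe u

open CategoryTheory AlgebraicGeometry Limits

attribute [local instance] Curv2.stalkAlgebra

variable {X Y : Scheme.{u}} (f : X ⟶ Y) (x : X)

/-- The quotient of the stalk by the maximal ideal of the base is the local ring of the fibre. -/
theorem exists_fibre_map :
    ∃ φ : X.presheaf.stalk x ⟶ (f.fiber (f x)).presheaf.stalk (f.asFiber x),
      Function.Surjective φ.hom ∧
      RingHom.ker φ.hom = (IsLocalRing.maximalIdeal (Y.presheaf.stalk (f x))).map (f.stalkMap x).hom ∧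
      Spec.map φ ≫ X.fromSpecStalk x = (f.fiber (f x)).fromSpecStalk (f.asFiber x) ≫ f.fiberι (f x) := by
  have key : ∀ x' : X, f.fiberι (f x) (f.asFiber x) = x' →
      ∃ φ : X.presheaf.stalk x' ⟶ (f.fiber (f x)).presheaf.stalk (f.asFiber x),
        Function.Surjective φ.hom ∧
        RingHom.ker φ.hom = (IsLocalRing.maximalIdeal (Y.presheaf.stalk (f x'))).map (f.stalkMap x').hom ∧
        Spec.map φ ≫ X.fromSpecStalk x' = (f.fiber (f x)).fromSpecStalk (f.asFiber x) ≫ f.fiberι (f x) := by
    rintro x' rfl
    obtain ⟨h1, h2⟩ := FibCrit.fiberι_stalkMap f (f x) (f.asFiber x)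
    exact ⟨(f.fiberι (f x)).stalkMap (f.asFiber x), h1, h2, Scheme.SpecMap_stalkMap_fromSpecStalk _⟩
  exact key x (f.fiberι_asFiber x)

variable [LocallyOfFiniteType f]

instance lfp_fiber (y : Y) : LocallyOfFinitePresentation (f.fiberToSpecResidueField y) :=
  haveI : LocallyOfFiniteType (f.fiberToSpecResidueField y) :=
    inferInstanceAs (LocallyOfFiniteType (pullback.snd f (Y.fromSpecResidueField y)))
  LocallyOfFinitePresentation.iff_locallyOfFiniteType.mpr inferInstance

/-- Geometric regularity of the fibre at a point is smoothness of the fibre there. -/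
theorem geomRegular_quot_iff :
    (letI φ := (f.stalkMap x).hom
     letI 𝔪 := IsLocalRing.maximalIdeal ↑(Y.presheaf.stalk (f.base x))
     letI : Algebra (IsLocalRing.ResidueField ↑(Y.presheaf.stalk (f.base x))) (↑(X.presheaf.stalk x) ⧸ 𝔪.map φ) :=
      (Ideal.quotientMap (𝔪.map φ) φ Ideal.le_comap_map).toAlgebra
     CAlg.IsGeometricallyRegular (IsLocalRing.ResidueField ↑(Y.presheaf.stalk (f.base x)))
          (↑(X.presheaf.stalk x) ⧸ 𝔪.map φ)) ↔
      f.asFiber x ∈ (f.fiberToSpecResidueField (f x)).smoothLocus := by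
  let K : Type u := IsLocalRing.ResidueField (Y.presheaf.stalk (f x))
  let F := f.fiber (f x)
  let z := f.asFiber x
  letI : F.Over (Spec (CommRingCat.of K)) := ⟨f.fiberToSpecResidueField (f x)⟩
  haveI : LocallyOfFiniteType (F ↘ Spec (CommRingCat.of K)) :=
    inferInstanceAs (LocallyOfFiniteType (pullback.snd f (Y.fromSpecResidueField (f x))))
  haveI : IsLocallyNoetherian F := LocallyOfFiniteType.isLocallyNoetherian (F ↘ Spec (CommRingCat.of K))
  let I := (IsLocalRing.maximalIdeal (Y.presheaf.stalk (f x))).map (f.stalkMap x).hom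
  letI : Algebra K (X.presheaf.stalk x ⧸ I) :=
    (Ideal.quotientMap I (f.stalkMap x).hom Ideal.le_comap_map).toAlgebra
  obtain ⟨φ, hs, hk, hφ⟩ := exists_fibre_map f x
  have hc : CommRingCat.ofHom (IsLocalRing.residue (Y.presheaf.stalk (f x))) ≫
      CommRingCat.ofHom (algebraMap K (F.presheaf.stalk z)) = f.stalkMap x ≫ φ := by
    apply Spec.map_injective
    rw [← cancel_mono (Y.fromSpecStalk (f x)), Spec.map_comp, Spec.map_comp, Category.assoc, Category.assoc,
      Scheme.SpecMap_stalkMap_fromSpecStalk, ← Category.assoc (Spec.map φ), hφ, Category.assoc,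
      ← GeomProp.fromSpecStalk_over K F z, Category.assoc]
    exact congrArg (F.fromSpecStalk z ≫ ·) (f.fiber_fac (f x)).symm
  let e : (X.presheaf.stalk x ⧸ I) ≃ₐ[K] F.presheaf.stalk z :=
    AlgEquiv.ofRingEquiv (f := (Ideal.quotEquivOfEq hk.symm).trans (RingHom.quotientKerEquivOfSurjective hs))
      (fun c => by
        obtain ⟨a, rfl⟩ := IsLocalRing.residue_surjective c
        exact (congr($(hc).hom a)).symm)
  have h2 : CAlg.IsGeometricallyRegular K (X.presheaf.stalk x ⧸ I) ↔
      CAlg.IsGeometricallyRegular K (F.presheaf.stalk z) := by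
    constructor <;> intro h k' _ _ hk'
    · exact FlatDepth.isRegularRing_of_equiv _ _
        (Algebra.TensorProduct.congr (AlgEquiv.refl (R := K) (A₁ := k')) e).toRingEquiv (h k' hk')
    · exact FlatDepth.isRegularRing_of_equiv _ _
        (Algebra.TensorProduct.congr (AlgEquiv.refl (R := K) (A₁ := k')) e.symm).toRingEquiv (h k' hk')
  exact h2.trans ((GeomProp.isGeomRegularAt_iff K F z).symm.trans (GeomProp.isGeomRegularAt_iff_mem_smoothLocus K F z))

/-- A smooth point of the fibre is a point of geometric reducedness. -/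
theorem gr_of_fibre_smooth (h : f.asFiber x ∈ (f.fiberToSpecResidueField (f x)).smoothLocus) :
    GeomRedAt.GR f x := by
  haveI : LocallyOfFiniteType (f.fiberToSpecResidueField (f x)) :=
    inferInstanceAs (LocallyOfFiniteType (pullback.snd f (Y.fromSpecResidueField (f x))))
  refine (GeomRedAt.isGeomReducedAt_iff f x).1 fun K iK iA x' hx' => ?_
  letI : Algebra (Y.residueField (f x)) K := iA
  let p := f.fiberToSpecResidueField (f x)
  let b := Spec.map (CommRingCat.ofHom (algebraMap (Y.residueField (f x)) K))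
  let x'' : ↥(pullback p b) := x'
  haveI : LocallyOfFinitePresentation (pullback.snd p b) := inferInstance
  have hx'' : pullback.fst p b x'' = f.asFiber x := hx'
  haveI : IsRegularLocalRing ((pullback p b).presheaf.stalk x'') :=
    GeomProp.regular_stalk_of_mem_smoothLocus (pullback.snd p b)
      (SmDesc.preimage_smoothLocus_le (IsPullback.of_hasPullback p b)
        (show pullback.fst p b x'' ∈ p.smoothLocus from hx''.symm ▸ h))
  show _root_.IsReduced ((pullback p b).presheaf.stalk x'')
  haveI := Groth.Agent.RegLoc.isDomain ((pullback p b).presheaf.stalk x'')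
  infer_instance

theorem mem_smoothLocus_iff [LocallyOfFinitePresentation f] :
    (∃ U : X.Opens, x ∈ U ∧ Smooth (U.ι ≫ f)) ↔ x ∈ f.smoothLocus :=
  ⟨fun ⟨_, hx, h⟩ => haveI := h; SmDesc.mem_smoothLocus_of_smooth_ι f hx,
    fun h => ⟨f.smoothLocus, h, SmDesc.smooth_smoothLocus f⟩⟩

/-- Over a reduced local ring of the base: universally open along the fibre and geometrically regular fibre
imply smooth. -/
theorem mem_smoothLocus_of_univOpen [IsLocallyNoetherian Y] [LocallyOfFinitePresentation f]
    [_root_.IsReduced (Y.presheaf.stalk (f x))] (W : X.Opens) (hxW : x ∈ W)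
    (hW : ∀ x' ∈ W, f x' = f x → EGA43.IsUnivOpenAt f x')
    (h : f.asFiber x ∈ (f.fiberToSpecResidueField (f x)).smoothLocus) : x ∈ f.smoothLocus := by
  haveI : LocallyOfFinitePresentation (f.fiberToSpecResidueField (f.base x)) :=
    inferInstanceAs (LocallyOfFinitePresentation (pullback.snd f (Y.fromSpecResidueField (f x))))
  refine (S2156.result f x).2 ⟨?_, h⟩
  exact UOFlat.flat_stalkMap f x (fun z hz hfz _ => hW z (hz.mem_open W.2 hxW) hfz) (gr_of_fibre_smooth f x h)

theorem univOpen_of_smooth [LocallyOfFinitePresentation f] :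
    ∀ x' ∈ f.smoothLocus, EGA43.IsUnivOpenAt f x' := fun x' hx' => by
  haveI := SmDesc.smooth_smoothLocus f
  haveI : UniversallyOpen (f.smoothLocus.ι ≫ f) := inferInstance
  exact UOFlat.isUnivOpenAt_of_opens f f.smoothLocus hx'

theorem fibre_smooth_of_smooth [LocallyOfFinitePresentation f] (h : x ∈ f.smoothLocus) :
    f.asFiber x ∈ (f.fiberToSpecResidueField (f x)).smoothLocus := by
  haveI : LocallyOfFinitePresentation (f.fiberToSpecResidueField (f.base x)) :=
    inferInstanceAs (LocallyOfFinitePresentation (pullback.snd f (Y.fromSpecResidueField (f x))))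
  exact ((S2156.result f x).1 h).2

theorem equidim_of_smooth [IsLocallyNoetherian Y] [LocallyOfFinitePresentation f] (h : x ∈ f.smoothLocus) :
    EGA43.IsEquidimAt f x := by
  haveI : IsLocallyNoetherian X := LocallyOfFiniteType.isLocallyNoetherian f
  haveI : LocallyOfFiniteType (f.fiberToSpecResidueField (f x)) :=
    inferInstanceAs (LocallyOfFiniteType (pullback.snd f (Y.fromSpecResidueField (f x))))
  haveI := SmDesc.smooth_smoothLocus f
  haveI hl : LocallyOfFinitePresentation (f.fiberToSpecResidueField (f x)) := lfp_fiber f (f x)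
  haveI := @GeomProp.regular_stalk_of_mem_smoothLocus _ _ _ (f.fiberToSpecResidueField (f x)) hl _ (fibre_smooth_of_smooth f x h)
  exact CMChart.isEquidimAt_of_isCMAt f ⟨FibMapPoint.flat_stalkMap_of_nhd f h,
    CMFlat.isCohenMacaulayLocalRing_of_isRegularLocalRing _⟩

/-- Equidimensionality at a point over a geometrically unibranch point gives universal openness along the fibre. -/
theorem univOpen_of_equidim [IsLocallyNoetherian Y] (hy : CAlg2.IsGeomUnibranch (Y.presheaf.stalk (f x)))
    (h : EGA43.IsEquidimAt f x) :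
    ∃ W : X.Opens, x ∈ W ∧ ∀ x' ∈ W, f x' = f x → EGA43.IsUnivOpenAt f x' := by
  obtain ⟨e, U, hxU, hdom, hdim⟩ := h
  refine ⟨U, hxU, fun x' hx' hfx => ?_⟩
  obtain ⟨V, hV, hyV, -⟩ := exists_isAffineOpen_mem_and_subset (show f x' ∈ (⊤ : Y.Opens) from trivial)
  refine Unibranch.isUnivOpenAt_of_isEquidimAt f x' ?_ ⟨V, hyV, ?_⟩ ⟨e, U, hx', fun Z hZ => ?_, hdim⟩
  · rw [hfx]; exact hy
  · haveI : IsNoetherianRing Γ(Y, V) := IsLocallyNoetherian.component_noetherian ⟨V, hV⟩
    haveI : TopologicalSpace.NoetherianSpace ↥V := noetherianSpace_of_isAffineOpen V hV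
    exact TopologicalSpace.NoetherianSpace.finite_irreducibleComponents
  · obtain ⟨W, hW, hxW, hWe⟩ := hdom Z hZ
    exact ⟨W, hW, (show f.base x' ∈ W from (show f.base x' = f.base x from hfx) ▸ hxW), hWe⟩

end Groth.Agent.SmoothGR
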